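import Mathlib
import Groth.Agent.KRegLib.Mor
import Groth.Agent.KRegLib.FFDescent

/-!
# Koszul regular immersions: composition, flat base change, fpqc descent
-/

set_option autoImplicit false
set_option linter.style.haveILetI false

universe u

open AlgebraicGeometry CategoryTheory
open Groth.Agent.WiebeLib (IsExact)

namespace Groth.Agent.RegImmLib

open Groth.Agent.KRegLib

/-- The kernel of a base change of a surjective ring map is the extended kernel. -/
theorem ker_of_isPushout {P B C T : CommRingCat.{u}} {a : P ⟶ B} {b : P ⟶ C} {c : B ⟶ T} {d : C ⟶ T}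
    (h : IsPushout a b c d) (ha : Function.Surjective a) :
    RingHom.ker d.hom = (RingHom.ker a.hom).map b.hom := by
  let J := (RingHom.ker a.hom).map b.hom
  refine le_antisymm (fun x hx => ?_) (Ideal.map_le_iff_le_comap.2 fun x hx => ?_)
  · let β : B →+* C ⧸ J := RingHom.liftOfSurjective a.hom ha
      ⟨(Ideal.Quotient.mk J).comp b.hom, fun y hy => by
        rw [RingHom.mem_ker, RingHom.comp_apply]
        exact Ideal.Quotient.eq_zero_iff_mem.2 (Ideal.mem_map_of_mem _ hy)⟩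
    have hβ : β.comp a.hom = (Ideal.Quotient.mk J).comp b.hom :=
      RingHom.liftOfRightInverse_comp _ _ _ _
    have w : a ≫ CommRingCat.ofHom β = b ≫ CommRingCat.ofHom (Ideal.Quotient.mk J) :=
      CommRingCat.hom_ext hβ
    have h2 := congrArg (fun f => f.hom x) (h.inr_desc _ _ w)
    refine Ideal.Quotient.eq_zero_iff_mem.1 (h2.symm.trans ?_)
    show (h.desc _ _ w).hom (d.hom x) = 0
    rw [(RingHom.mem_ker).1 hx, map_zero]
  · rw [Ideal.mem_comap, RingHom.mem_ker]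
    have h2 := congrArg (fun f => f.hom x) h.w
    refine Eq.trans h2.symm ?_
    show c.hom (a.hom x) = 0
    rw [(RingHom.mem_ker).1 hx, map_zero]

section restrict

variable {Z X : Scheme.{u}} (i : Z ⟶ X) {U : X.Opens} (hU : IsAffineOpen U) [IsClosedImmersion (i ∣_ U)]

/-- A Koszul regular sequence generating the kernel restricts to a basic open. -/
theorem restrict_basicOpen (g : Γ(X, U)) {n : ℕ} {f : Fin n → Γ(X, U)} (hf : IsExact f)
    (hker : RingHom.ker (i.app U).hom = Ideal.span (Set.range f)) (hU : IsAffineOpen U) :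
    ∃ f' : Fin n → Γ(X, X.basicOpen g), IsExact f' ∧
      RingHom.ker (i.app (X.basicOpen g)).hom = Ideal.span (Set.range f') := by
  obtain ⟨hU', hs⟩ := Synt29.surjective_app_of_isClosedImmersion_restrict i U hU
  letI : Algebra Γ(X, U) Γ(X, X.basicOpen g) := (X.presheaf.map (homOfLE (X.basicOpen_le g)).op).hom.toAlgebra
  haveI : IsLocalization.Away g Γ(X, X.basicOpen g) := hU.isLocalization_basicOpen g
  haveI : Module.Flat Γ(X, U) Γ(X, X.basicOpen g) := IsLocalization.flat _ (Submonoid.powers g)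
  refine ⟨fun j => algebraMap Γ(X, U) Γ(X, X.basicOpen g) (f j), WiebeLib.isExact_map hf,
    (app_basicOpen_props i hU hU' hs g).2.2.trans ?_⟩
  rw [hker, Ideal.map_span, ← Set.range_comp]
  rfl

end restrict

/-- Koszul regular immersion at a point, with a sequence of given length. -/
def IsKoszulAtLength {Z X : Scheme.{u}} (i : Z ⟶ X) (n : ℕ) (z : Z) : Prop :=
  ∃ (U : X.Opens) (_ : IsAffineOpen U), i z ∈ U ∧ IsClosedImmersion (i ∣_ U) ∧
    ∃ f : Fin n → Γ(X, U), IsExact f ∧ RingHom.ker (i.app U).hom = Ideal.span (Set.range f)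

theorem span_range_eq_ofList {R : Type u} [CommRing R] {n : ℕ} (f : Fin n → R) :
    Ideal.span (Set.range f) = Ideal.ofList (List.ofFn f) := by
  show _ = Ideal.span {y | y ∈ List.ofFn f}
  congr 1
  ext y
  simp [List.mem_ofFn]

theorem isKoszulAtLength_iff {Z X : Scheme.{u}} (i : Z ⟶ X) (n : ℕ) (z : Z) :
    IsKoszulAtLength i n z ↔ ∃ U : X.affineOpens, i z ∈ U.1 ∧ IsClosedImmersion (i ∣_ U.1) ∧
      ∃ rs : List Γ(X, U.1), rs.length = n ∧ RegImm.Kind.koszul.Seq Γ(X, U.1) rs ∧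
        RingHom.ker (i.app U.1).hom = Ideal.ofList rs := by
  constructor
  · rintro ⟨U, hU, hz, hci, f, hf, hker⟩
    exact ⟨⟨U, hU⟩, hz, hci, List.ofFn f, by simp, KoszulFlatLib.isKoszulRegularSeq_of_isExact hf,
      hker.trans (span_range_eq_ofList f)⟩
  · rintro ⟨U, hz, hci, rs, rfl, hrs, hker⟩
    refine ⟨U.1, U.2, hz, hci, rs.get,
      WiebeLib.isExact_of_isKoszulRegularSeq _ (by rw [List.ofFn_get]; exact hrs), hker.trans ?_⟩
    rw [span_range_eq_ofList, List.ofFn_get]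

theorem isRegularImmersionAt_iff {Z X : Scheme.{u}} (i : Z ⟶ X) (z : Z) :
    RegImm.IsRegularImmersionAt .koszul i z ↔ ∃ n, IsKoszulAtLength i n z := by
  constructor
  · rintro ⟨U, hz, hci, rs, hrs, hker⟩
    exact ⟨rs.length, (isKoszulAtLength_iff i _ z).2 ⟨U, hz, hci, rs, rfl, hrs, hker⟩⟩
  · rintro ⟨n, h⟩
    obtain ⟨U, hz, hci, rs, -, hrs, hker⟩ := (isKoszulAtLength_iff i n z).1 h
    exact ⟨U, hz, hci, rs, hrs, hker⟩

/-- Composition. -/
theorem IsKoszulAtLength.comp {X Y Z : Scheme.{u}} (i : Y ⟶ X) (j : Z ⟶ Y) (z : Z) {n m : ℕ}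
    (hi : IsKoszulAtLength i n (j z)) (hj : IsKoszulAtLength j m z) :
    IsKoszulAtLength (j ≫ i) (n + m) z := by
  obtain ⟨U, hU, hzU, hci, f, hf, hker⟩ := hi
  obtain ⟨V, hV, hzV, hcj, h, hh, hkerh⟩ := hj
  obtain ⟨hU', hUs⟩ := Synt29.surjective_app_of_isClosedImmersion_restrict i U hU
  obtain ⟨g, g', hgg, hzg⟩ := exists_basicOpen_le_affine_inter hU' hV (j z) ⟨hzU, hzV⟩
  obtain ⟨G, rfl⟩ := hUs g
  let W := X.basicOpen G
  have hW : IsAffineOpen W := hU.basicOpen G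
  haveI hciW : IsClosedImmersion (i ∣_ W) := isClosedImmersion_restrict_of_le i (X.basicOpen_le G)
  obtain ⟨hW', hWs⟩ := Synt29.surjective_app_of_isClosedImmersion_restrict i W hW
  obtain ⟨f', hf', hkerf'⟩ := restrict_basicOpen i G hf hker hU
  obtain ⟨h', hh', hkerh'⟩ := restrict_basicOpen j g' hh hkerh hV
  have hpre : i ⁻¹ᵁ W = Y.basicOpen g' := (Scheme.preimage_basicOpen i G).trans hgg
  have key : ∀ O : Y.Opens, O = Y.basicOpen g' → IsClosedImmersion (j ∣_ O) ∧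
      ∃ h'' : Fin m → Γ(Y, O), IsExact h'' ∧ RingHom.ker (j.app O).hom = Ideal.span (Set.range h'') := by
    rintro O rfl
    exact ⟨isClosedImmersion_restrict_of_le j (Y.basicOpen_le g'), h', hh', hkerh'⟩
  obtain ⟨hcjW, h'', hh'', hkerh''⟩ := key (i ⁻¹ᵁ W) hpre
  choose l hl using fun k => hWs (h'' k)
  refine ⟨W, hW, ?_, ?_, appendSeq f' m l,
    isExact_appendSeq hf' hWs hkerf' l (by simpa only [hl] using hh''), ?_⟩
  · show j z ∈ i ⁻¹ᵁ W
    rw [hpre, ← hgg]
    exact hzg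
  · rw [morphismRestrict_comp]
    exact MorphismProperty.comp_mem @IsClosedImmersion _ _ hcjW hciW
  · show RingHom.ker ((j.app (i ⁻¹ᵁ W)).hom.comp (i.app W).hom) = _
    rw [← RingHom.comap_ker, hkerh'',
      span_appendSeq, ← hkerf']
    have h5 : (Ideal.span (Set.range l)).map (i.app W).hom = Ideal.span (Set.range h'') := by
      rw [Ideal.map_span, ← Set.range_comp]
      exact congrArg (fun z => Ideal.span (Set.range z)) (funext hl)
    rw [← h5, Ideal.comap_map_of_surjective _ hWs, ← RingHom.ker_eq_comap_bot, sup_comm]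

/-- Flat base change. -/
theorem IsKoszulAtLength.baseChange {X Y X' Y' : Scheme.{u}} {i : Y ⟶ X} {g : X' ⟶ X} [Flat g]
    {i' : Y' ⟶ X'} {g' : Y' ⟶ Y} (hsq : IsPullback g' i' i g) (z' : Y') {n : ℕ}
    (h : IsKoszulAtLength i n (g' z')) : IsKoszulAtLength i' n z' := by
  obtain ⟨U, hU, hzU, hci, f, hf, hker⟩ := h
  have hx : g (i' z') ∈ U := by
    have h1 : g (i' z') = i (g' z') := (congrArg (fun φ : Y' ⟶ X => φ z') hsq.w).symm
    rw [h1]
    exact hzU
  obtain ⟨U', hU', hzU', hle⟩ := exists_isAffineOpen_mem_and_subset (U := g ⁻¹ᵁ U) (x := i' z') hx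
  obtain ⟨hUY, hUs⟩ := Synt29.surjective_app_of_isClosedImmersion_restrict i U hU
  have hUY' : i' ⁻¹ᵁ U' = g' ⁻¹ᵁ (i ⁻¹ᵁ U) ⊓ i' ⁻¹ᵁ U' := by
    refine (inf_eq_right.2 fun y hy => ?_).symm
    show i (g' y) ∈ U
    have h1 : i (g' y) = g (i' y) := congrArg (fun φ : Y' ⟶ X => φ y) hsq.w
    rw [h1]
    exact hle hy
  have hpo := (isIso_pushoutSection_iff hsq hle le_rfl hUY').1
    (isIso_pushoutSection_of_isAffineOpen hsq hle le_rfl hUY' hU hU' hUY)
  have hs : Function.Surjective (i.appLE U (i ⁻¹ᵁ U) le_rfl) := by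
    rw [← Scheme.Hom.app_eq_appLE]
    exact hUs
  have hk := ker_of_isPushout hpo hs
  rw [← Scheme.Hom.app_eq_appLE, ← Scheme.Hom.app_eq_appLE] at hk
  letI : Algebra Γ(X, U) Γ(X', U') := (g.appLE U U' hle).hom.toAlgebra
  haveI : Module.Flat Γ(X, U) Γ(X', U') := g.flat_appLE hU hU' hle
  refine ⟨U', hU', hzU', ?_, fun k => algebraMap Γ(X, U) Γ(X', U') (f k), WiebeLib.isExact_map hf,
    hk.trans ?_⟩
  · have h2 := Scheme.Hom.isPullback_resLE hsq hle le_rfl hUY'
    have h3 : IsClosedImmersion (i.resLE U (i ⁻¹ᵁ U) le_rfl) := by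
      rw [Scheme.Hom.resLE_eq_morphismRestrict]
      exact hci
    rw [← Scheme.Hom.resLE_eq_morphismRestrict]
    exact MorphismProperty.of_isPullback (P := @IsClosedImmersion) h2 h3
  · rw [hker, Ideal.map_span, ← Set.range_comp]
    rfl

theorem isRegularImmersion_baseChange {X Y X' Y' : Scheme.{u}} {i : Y ⟶ X} {g : X' ⟶ X} [Flat g]
    {i' : Y' ⟶ X'} {g' : Y' ⟶ Y} (hsq : IsPullback g' i' i g)
    (hi : RegImm.IsRegularImmersion .koszul i) : RegImm.IsRegularImmersion .koszul i' := by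
  refine ⟨MorphismProperty.of_isPullback (P := @IsImmersion) hsq hi.1, fun z' => ?_⟩
  obtain ⟨n, hn⟩ := (isRegularImmersionAt_iff i (g' z')).1 (hi.2 (g' z'))
  exact (isRegularImmersionAt_iff i' z').2 ⟨n, hn.baseChange hsq z'⟩

/-- fpqc descent of Koszul regularity of an immersion. -/
theorem isRegularImmersion_of_fpqc {X Y X' Y' : Scheme.{u}} (i : Y ⟶ X) [IsImmersion i]
    (g : X' ⟶ X) [Flat g] [Surjective g] [QuasiCompact g]
    (i' : Y' ⟶ X') (g' : Y' ⟶ Y) (hsq : IsPullback g' i' i g)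
    (hi' : RegImm.IsRegularImmersion .koszul i') : RegImm.IsRegularImmersion .koszul i := by
  refine ⟨inferInstance, fun z => ?_⟩
  obtain ⟨U, hU, hzU, -, hci⟩ := exists_affine_isClosedImmersion_restrict i z ⊤ trivial
  haveI : CompactSpace (g ⁻¹ᵁ U : X'.Opens) :=
    isCompact_iff_compactSpace.1 (QuasiCompact.isCompact_preimage (f := g) U U.2 hU.isCompact)
  obtain ⟨W, p, hp, hpl, hW⟩ :=
    (g ⁻¹ᵁ U).toScheme.exists_hom_isAffine_of_isZariskiLocalAtSource @IsLocalIso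
  haveI : Flat p := (IsLocalIso.le_of_isZariskiLocalAtSource @Flat) _ _ p hpl
  let q : W ⟶ X' := p ≫ (g ⁻¹ᵁ U).ι
  let Y'' := Limits.pullback i' q
  let i'' : Y'' ⟶ W := Limits.pullback.snd i' q
  have hsq'' : IsPullback (Limits.pullback.fst i' q ≫ g') i'' i (q ≫ g) :=
    (IsPullback.of_hasPullback i' q).paste_horiz hsq
  have hi'' : RegImm.IsRegularImmersion .koszul i'' :=
    isRegularImmersion_baseChange (IsPullback.of_hasPullback i' q) hi'
  have hle : (⊤ : W.Opens) ≤ (q ≫ g) ⁻¹ᵁ U := fun w _ => (p w).2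
  obtain ⟨hUY, hUs⟩ := Synt29.surjective_app_of_isClosedImmersion_restrict i U hU
  have hWtop : IsAffineOpen (⊤ : W.Opens) := isAffineOpen_top W
  have hUY' : i'' ⁻¹ᵁ ⊤ = (Limits.pullback.fst i' q ≫ g') ⁻¹ᵁ (i ⁻¹ᵁ U) ⊓ i'' ⁻¹ᵁ ⊤ := by
    refine (inf_eq_right.2 fun y hy => ?_).symm
    show i ((Limits.pullback.fst i' q ≫ g') y) ∈ U
    have h1 : i ((Limits.pullback.fst i' q ≫ g') y) = (q ≫ g) (i'' y) :=
      congrArg (fun φ : Y'' ⟶ X => φ y) hsq''.w
    rw [h1]
    exact hle hy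
  have hpo := (isIso_pushoutSection_iff hsq'' hle le_rfl hUY').1
    (isIso_pushoutSection_of_isAffineOpen hsq'' hle le_rfl hUY' hU hWtop hUY)
  have hs : Function.Surjective (i.appLE U (i ⁻¹ᵁ U) le_rfl) := by
    rw [← Scheme.Hom.app_eq_appLE]
    exact hUs
  have hk := ker_of_isPushout hpo hs
  rw [← Scheme.Hom.app_eq_appLE, ← Scheme.Hom.app_eq_appLE] at hk
  -- the ring map is faithfully flat
  letI : Algebra Γ(X, U) Γ(W, ⊤) := ((q ≫ g).appLE U ⊤ hle).hom.toAlgebra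
  haveI : Module.FaithfullyFlat Γ(X, U) Γ(W, ⊤) := by
    haveI hflat : Module.Flat Γ(X, U) Γ(W, ⊤) := (q ≫ g).flat_appLE hU hWtop hle
    refine RingHom.FaithfullyFlat.iff_flat_and_comap_surjective.2 ⟨hflat, fun P => ?_⟩
    obtain ⟨x', hx'⟩ := g.surjective (hU.fromSpec P)
    have hxU : x' ∈ g ⁻¹ᵁ U := by
      show g x' ∈ U
      rw [hx']
      have h0 : hU.fromSpec P ∈ Set.range hU.fromSpec := ⟨P, rfl⟩
      rwa [hU.range_fromSpec] at h0
    haveI := hp
    obtain ⟨w, hw⟩ := p.surjective ⟨x', hxU⟩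
    refine ⟨hWtop.primeIdealOf ⟨w, trivial⟩, hU.fromSpec.isOpenEmbedding.injective ?_⟩
    show (Spec.map ((q ≫ g).appLE U ⊤ hle) ≫ hU.fromSpec) _ = _
    rw [IsAffineOpen.SpecMap_appLE_fromSpec (q ≫ g) hU hWtop hle]
    show (q ≫ g) (hWtop.fromSpec _) = _
    rw [hWtop.fromSpec_primeIdealOf]
    show g ((g ⁻¹ᵁ U).ι (p w)) = _
    rw [hw]
    exact hx'
  -- the extended ideal is Koszul regular
  haveI : IsClosedImmersion (i'' ∣_ ⊤) := by
    have h2 := Scheme.Hom.isPullback_resLE hsq'' hle le_rfl hUY'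
    have h3 : IsClosedImmersion (i.resLE U (i ⁻¹ᵁ U) le_rfl) := by
      rw [Scheme.Hom.resLE_eq_morphismRestrict]
      exact hci
    rw [← Scheme.Hom.resLE_eq_morphismRestrict]
    exact MorphismProperty.of_isPullback (P := @IsClosedImmersion) h2 h3
  obtain ⟨hY'', hsW⟩ := Synt29.surjective_app_of_isClosedImmersion_restrict i'' ⊤ hWtop
  have hKW : LCI.IsKoszulRegularIdeal (RingHom.ker (i''.app ⊤).hom) := by
    rw [isKoszulRegularIdeal_iff]
    intro P hP hle'
    let Q : Ideal Γ(Y'', i'' ⁻¹ᵁ ⊤) := P.map (i''.app ⊤).hom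
    haveI : Q.IsPrime := Ideal.map_isPrime_of_surjective hsW hle'
    let y : Y'' := hY''.fromSpec ⟨Q, inferInstance⟩
    have hy : i'' y = hWtop.fromSpec ⟨P, hP⟩ := by
      have h1 := IsAffineOpen.SpecMap_appLE_fromSpec i'' hWtop hY'' le_rfl
      show (hY''.fromSpec ≫ i'') _ = _
      rw [← h1]
      show hWtop.fromSpec (Spec.map _ _) = _
      congr 1
      apply PrimeSpectrum.ext
      show Q.comap (i''.appLE ⊤ (i'' ⁻¹ᵁ ⊤) le_rfl).hom = P
      rw [← Scheme.Hom.app_eq_appLE]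
      show (P.map (i''.app ⊤).hom).comap (i''.app ⊤).hom = P
      rw [Ideal.comap_map_of_surjective _ hsW, ← RingHom.ker_eq_comap_bot, sup_eq_left]
      exact hle'
    have h := kReg_of_regImmAt i'' y (hi''.2 y) hWtop trivial
    have hp' : hWtop.primeIdealOf ⟨i'' y, trivial⟩ = ⟨P, hP⟩ :=
      hWtop.fromSpec.isOpenEmbedding.injective ((hWtop.fromSpec_primeIdealOf _).trans hy)
    rw [hp'] at h
    exact h
  have hKU : LCI.IsKoszulRegularIdeal (RingHom.ker (i.app U).hom) :=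
    isKoszulRegularIdeal_of_faithfullyFlat (B := Γ(W, ⊤)) _ (hk ▸ hKW)
  have hle0 : RingHom.ker (i.app U).hom ≤ (hU.primeIdealOf ⟨i z, hzU⟩).asIdeal := by
    have h1 := IsAffineOpen.SpecMap_appLE_fromSpec i hU hUY le_rfl
    have h2 : hU.primeIdealOf ⟨i z, hzU⟩ = Spec.map (i.appLE U (i ⁻¹ᵁ U) le_rfl) (hUY.primeIdealOf ⟨z, hzU⟩) := by
      apply hU.fromSpec.isOpenEmbedding.injective
      rw [hU.fromSpec_primeIdealOf]
      show i z = (Spec.map _ ≫ hU.fromSpec) _
      rw [h1]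
      show i z = i (hUY.fromSpec _)
      rw [hUY.fromSpec_primeIdealOf]
    rw [h2, ← Scheme.Hom.app_eq_appLE]
    exact fun a ha => by
      show (i.app U).hom a ∈ (hUY.primeIdealOf ⟨z, hzU⟩).asIdeal
      rw [(RingHom.mem_ker).1 ha]
      exact zero_mem _
  obtain ⟨G, hG, hon⟩ := ((isKoszulRegularIdeal_iff _).1 hKU _ inferInstance hle0).exists_on
  letI : Algebra Γ(X, U) Γ(X, X.basicOpen G) := (X.presheaf.map (homOfLE (X.basicOpen_le G)).op).hom.toAlgebra
  haveI : IsLocalization.Away G Γ(X, X.basicOpen G) := hU.isLocalization_basicOpen G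
  haveI : Module.Flat Γ(X, U) Γ(X, X.basicOpen G) := IsLocalization.flat _ (Submonoid.powers G)
  obtain ⟨n, f, hf, hfI⟩ := hon Γ(X, X.basicOpen G) (IsLocalization.Away.algebraMap_isUnit G)
  refine (isRegularImmersionAt_iff i z).2 ⟨n, X.basicOpen G, hU.basicOpen G, ?_,
    isClosedImmersion_restrict_of_le i (X.basicOpen_le G), f, hf,
    ((app_basicOpen_props i hU hUY hUs G).2.2).trans hfI⟩
  rw [← hU.fromSpec_image_basicOpen G]
  exact ⟨hU.primeIdealOf ⟨i z, hzU⟩, hG, hU.fromSpec_primeIdealOf _⟩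

end Groth.Agent.RegImmLib
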